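import Mathlib
import Cfsg.Agent.Lib.PGroup.Basic

/-! Weighted element and class sums for `p`-groups of permutations: definitions and basic facts. -/

set_option autoImplicit false
open Finset MulAction
open scoped Classical

namespace CfsgLib.KPerm

variable {G α : Type*} [Group G] [MulAction G α]

/-- Pointwise stabilizer of a finite set. -/
def fx (G : Type*) [Group G] [MulAction G α] (Δ : Finset α) : Subgroup G :=
  fixingSubgroup G (Δ : Set α)

theorem mem_fx {Δ : Finset α} {g : G} : g ∈ fx G Δ ↔ ∀ a ∈ Δ, g • a = a := by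
  simp [fx, mem_fixingSubgroup_iff]

/-- `Δ` is invariant under `P`. -/
def Inv (P : Subgroup G) (Δ : Finset α) : Prop := ∀ g ∈ P, ∀ a ∈ Δ, g • a ∈ Δ

theorem Inv.mono {P Q : Subgroup G} {Δ : Finset α} (h : Inv P Δ) (hQ : Q ≤ P) : Inv Q Δ :=
  fun g hg a ha => h g (hQ hg) a ha

/-- `x` and `g` commute on `Δ`. -/
def cm (Δ : Finset α) (x g : G) : Prop := ∀ a ∈ Δ, x • g • a = g • x • a

theorem cm.symm {Δ : Finset α} {x g : G} (h : cm Δ x g) : cm Δ g x := fun a ha => (h a ha).symm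

theorem cm.mul {P : Subgroup G} {Δ : Finset α} (hI : Inv P Δ) {x g h : G} (hh : h ∈ P)
    (h1 : cm Δ x g) (h2 : cm Δ x h) : cm Δ x (g * h) := fun a ha => by
  rw [mul_smul, mul_smul, h1 _ (hI h hh a ha), h2 a ha]

theorem cm.inv {P : Subgroup G} {Δ : Finset α} (hI : Inv P Δ) {x g : G} (hg : g ∈ P)
    (h1 : cm Δ x g) : cm Δ x g⁻¹ := fun a ha => by
  have := h1 _ (hI _ (P.inv_mem hg) a ha)
  rw [smul_inv_smul] at this
  rw [this, inv_smul_smul]

theorem cm.pow {P : Subgroup G} {Δ : Finset α} (hI : Inv P Δ) {x g : G} (hg : g ∈ P)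
    (h1 : cm Δ x g) (j : ℕ) : cm Δ x (g ^ j) := by
  induction j with
  | zero => intro a _; simp
  | succ j ih => rw [pow_succ]; exact cm.mul hI hg ih h1

variable [Fintype G]

/-- A subgroup as a finset. -/
noncomputable def E (N : Subgroup G) : Finset G := univ.filter (· ∈ N)

@[simp] theorem mem_E {N : Subgroup G} {g : G} : g ∈ E N ↔ g ∈ N := by simp [E]

theorem card_E (N : Subgroup G) : (E N).card = Nat.card N := by
  rw [E, Nat.card_eq_fintype_card, Fintype.card_subtype]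

theorem card_E_pos (N : Subgroup G) : 0 < (E N).card := by rw [card_E]; exact Nat.card_pos

theorem sum_mul_right {M : Type*} [AddCommMonoid M] {N : Subgroup G} {m : G} (hm : m ∈ N)
    (f : G → M) : ∑ n ∈ E N, f (n * m) = ∑ n ∈ E N, f n := by
  refine sum_nbij' (· * m) (· * m⁻¹) ?_ ?_ ?_ ?_ ?_
  · intro n hn; simpa using N.mul_mem (by simpa using hn) hm
  · intro n hn; simpa using N.mul_mem (by simpa using hn) (N.inv_mem hm)
  · intro n _; simp
  · intro n _; simp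
  · intro n _; rfl

theorem avg {M N : Subgroup G} (h : M ≤ N) (f : G → ℝ) :
    ((E M).card : ℝ) * ∑ n ∈ E N, f n = ∑ n ∈ E N, ∑ m ∈ E M, f (n * m) := by
  rw [sum_comm, sum_congr rfl fun m hm => sum_mul_right (h (mem_E.1 hm)) f, sum_const,
    nsmul_eq_mul]

theorem card_image_mul {β : Type*} [DecidableEq β] (P K : Subgroup G) (f : G → β)
    (hf : ∀ g h, f g = f h ↔ g⁻¹ * h ∈ K) :
    ((E P).image f).card * (E (P ⊓ K)).card = (E P).card := by
  rw [card_eq_sum_card_image f (E P), ← smul_eq_mul, ← sum_const]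
  refine sum_congr rfl fun b hb => ?_
  obtain ⟨g, hg, rfl⟩ := mem_image.1 hb
  rw [mem_E] at hg
  refine card_nbij' (g * ·) (g⁻¹ * ·) ?_ ?_ ?_ ?_
  · intro k hk
    simp only [coe_filter, mem_coe, mem_E, Subgroup.mem_inf, Set.mem_ofPred_eq] at hk ⊢
    exact ⟨P.mul_mem hg hk.1, ((hf _ _).2 (by simpa using hk.2)).symm⟩
  · intro k hk
    simp only [coe_filter, mem_coe, mem_E, Subgroup.mem_inf, Set.mem_ofPred_eq] at hk ⊢
    exact ⟨P.mul_mem (P.inv_mem hg) hk.1, (hf _ _).1 hk.2.symm⟩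
  · intro k _; simp
  · intro k _; simp

/-- Orbit as a finset. -/
noncomputable def orb (P : Subgroup G) (a : α) : Finset α := (E P).image (· • a)

theorem mem_orb {P : Subgroup G} {a b : α} : b ∈ orb P a ↔ ∃ g ∈ P, g • a = b := by
  simp [orb]

theorem self_mem_orb (P : Subgroup G) (a : α) : a ∈ orb P a := mem_orb.2 ⟨1, P.one_mem, one_smul _ _⟩

theorem orb_eq {P : Subgroup G} {a b : α} (h : b ∈ orb P a) : orb P b = orb P a := by
  obtain ⟨g, hg, rfl⟩ := mem_orb.1 h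
  ext c
  simp only [mem_orb]
  constructor
  · rintro ⟨k, hk, rfl⟩; exact ⟨k * g, P.mul_mem hk hg, mul_smul _ _ _⟩
  · rintro ⟨k, hk, rfl⟩; exact ⟨k * g⁻¹, P.mul_mem hk (P.inv_mem hg), by simp [mul_smul]⟩

theorem inv_orb (P : Subgroup G) (a : α) : Inv P (orb P a) := fun g hg b hb => by
  obtain ⟨k, hk, rfl⟩ := mem_orb.1 hb
  exact mem_orb.2 ⟨g * k, P.mul_mem hg hk, mul_smul _ _ _⟩

theorem orb_subset {P : Subgroup G} {Δ : Finset α} (hI : Inv P Δ) {a : α} (ha : a ∈ Δ) :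
    orb P a ⊆ Δ := fun b hb => by
  obtain ⟨k, hk, rfl⟩ := mem_orb.1 hb
  exact hI k hk a ha

theorem card_orb_mul (P : Subgroup G) (a : α) :
    (orb P a).card * (E (P ⊓ fx G {a})).card = (E P).card :=
  card_image_mul P _ _ fun g h => by
    simp only [mem_fx, mem_singleton, forall_eq, mul_smul, inv_smul_eq_iff]
    exact eq_comm

theorem card_orb_pos (P : Subgroup G) (a : α) : 0 < (orb P a).card :=
  card_pos.2 ⟨a, self_mem_orb P a⟩

theorem card_orb_pow {p : ℕ} [Fact p.Prime] {P : Subgroup G} (hP : IsPGroup p P) (a : α) :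
    ∃ k, (orb P a).card = p ^ k := by
  obtain ⟨j, hj⟩ := hP.exists_card_eq
  have : (orb P a).card ∣ p ^ j := ⟨_, by rw [← hj, ← card_E, card_orb_mul]⟩
  obtain ⟨k, -, hk⟩ := (Nat.dvd_prime_pow Fact.out).1 this
  exact ⟨k, hk⟩

theorem le_card_orb {p : ℕ} [hp : Fact p.Prime] {P : Subgroup G} (hP : IsPGroup p P) {a : α}
    {g : G} (hg : g ∈ P) (ha : g • a ≠ a) : p ∣ (orb P a).card := by
  obtain ⟨k, hk⟩ := card_orb_pow hP a
  rcases k with _ | k
  · exact absurd (card_le_one.1 hk.le _ (mem_orb.2 ⟨g, hg, rfl⟩) _ (self_mem_orb P a)) ha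
  · exact hk ▸ dvd_pow_self p k.succ_ne_zero

/-- Restriction to `Δ`. -/
def res (Δ : Finset α) (g : G) : Δ → α := fun a => g • (a : α)

omit [Fintype G] in
theorem res_eq_iff {Δ : Finset α} {g h : G} : res Δ g = res Δ h ↔ g⁻¹ * h ∈ fx G Δ := by
  simp only [mem_fx, funext_iff, res, Subtype.forall, mul_smul, inv_smul_eq_iff]
  exact forall₂_congr fun _ _ => eq_comm

/-- Order of the group induced on `Δ`. -/
noncomputable def ri (P : Subgroup G) (Δ : Finset α) : ℕ := ((E P).image (res Δ)).card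

theorem ri_mul (P : Subgroup G) (Δ : Finset α) :
    ri P Δ * (E (P ⊓ fx G Δ)).card = (E P).card := card_image_mul P _ _ fun _ _ => res_eq_iff

theorem card_le_ri {N P : Subgroup G} (h : N ≤ P) (Δ : Finset α) :
    (E N).card ≤ (E (N ⊓ fx G Δ)).card * ri P Δ := by
  rw [← ri_mul N Δ, mul_comm]
  exact Nat.mul_le_mul_left _ (card_le_card (image_subset_image fun g hg => by
    simpa using h (by simpa using hg)))

theorem pow_le_of_dvd_factorial {p j n : ℕ} (hp : p.Prime) (hn : 0 < n) (h : p ^ j ∣ n.factorial) :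
    (p ^ j) ^ (p - 1) ≤ p ^ (n - 1) := by
  have := Fact.mk hp
  have h1 : j ≤ padicValNat p n.factorial :=
    (padicValNat_dvd_iff_le n.factorial_ne_zero).1 h
  have h2 := sub_one_mul_padicValNat_factorial (p := p) n
  have h3 : 0 < (p.digits n).sum := by
    rcases Nat.eq_zero_or_pos (p.digits n).sum with h0 | h0
    · have h4 : ∀ d ∈ p.digits n, d = 0 := List.sum_eq_zero_iff.1 h0
      have h5 : p.digits n ≠ [] := Nat.digits_ne_nil_iff_ne_zero.2 hn.ne'
      exact absurd (h4 _ (List.getLast_mem h5)) (Nat.getLast_digit_ne_zero p hn.ne')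
    · exact h0
  rw [← pow_mul]
  refine Nat.pow_le_pow_right hp.pos ?_
  calc j * (p - 1) ≤ padicValNat p n.factorial * (p - 1) := Nat.mul_le_mul_right _ h1
    _ ≤ n - 1 := by rw [mul_comm, h2]; omega

theorem ri_dvd {P : Subgroup G} {Δ : Finset α} (hI : Inv P Δ) : ri P Δ ∣ Δ.card.factorial := by
  let S : SubMulAction P α := ⟨Δ, fun g a ha => hI g g.2 a ha⟩
  let φ := MulAction.toPermHom P S
  have h1 : Nat.card φ.ker = (E (P ⊓ fx G Δ)).card := by
    rw [card_E]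
    refine Nat.card_congr ⟨fun g => ⟨g.1, g.1.2, mem_fx.2 fun a ha => ?_⟩,
      fun g => ⟨⟨g.1, g.2.1⟩, ?_⟩, fun _ => rfl, fun _ => rfl⟩
    · exact congrArg Subtype.val (Equiv.congr_fun (MonoidHom.mem_ker.1 g.2) ⟨a, ha⟩)
    · exact MonoidHom.mem_ker.2 (Equiv.ext fun a => Subtype.ext (mem_fx.1 g.2.2 a a.2))
  have h2 : Nat.card φ.range * Nat.card φ.ker = Nat.card P := by
    rw [← Subgroup.index_ker, mul_comm, Subgroup.card_mul_index]
  have h3 : ri P Δ = Nat.card φ.range := by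
    refine Nat.eq_of_mul_eq_mul_right (card_E_pos (P ⊓ fx G Δ)) ?_
    rw [ri_mul, ← h1, h2, card_E]
  have h4 : Nat.card S = Δ.card := by
    rw [← Fintype.card_coe, ← Nat.card_eq_fintype_card]; rfl
  have : Finite S := inferInstanceAs (Finite Δ)
  rw [h3, ← h4, ← Nat.card_perm]
  exact Subgroup.card_subgroup_dvd_card _

theorem ri_pow_le {p : ℕ} [hp : Fact p.Prime] {P : Subgroup G} (hP : IsPGroup p P) {Δ : Finset α}
    (hI : Inv P Δ) (hΔ : 0 < Δ.card) : ri P Δ ^ (p - 1) ≤ p ^ (Δ.card - 1) := by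
  obtain ⟨j, hj⟩ := hP.exists_card_eq
  have : ri P Δ ∣ p ^ j := ⟨_, by rw [← hj, ← card_E, ri_mul]⟩
  obtain ⟨k, -, hk⟩ := (Nat.dvd_prime_pow hp.out).1 this
  rw [hk]
  exact pow_le_of_dvd_factorial hp.out hΔ (hk ▸ ri_dvd hI)

/-- Number of cycles of `x` meeting `Δ`. -/
noncomputable def cyc (Δ : Finset α) (x : G) : ℕ := (Δ.image (orb (Subgroup.zpowers x))).card

theorem mem_orb_zpowers {x : G} {a b : α} :
    b ∈ orb (Subgroup.zpowers x) a ↔ ∃ k : ℕ, x ^ k • a = b := by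
  rw [mem_orb]
  constructor
  · rintro ⟨g, hg, rfl⟩
    obtain ⟨k, rfl⟩ := (Submonoid.mem_powers_iff _ _).1 ((mem_powers_iff_mem_zpowers).2 hg)
    exact ⟨k, rfl⟩
  · rintro ⟨k, rfl⟩; exact ⟨_, Subgroup.npow_mem_zpowers x k, rfl⟩

theorem cyc_congr {Δ : Finset α} {x x' : G} (hx : ∀ a ∈ Δ, x • a ∈ Δ)
    (h : ∀ a ∈ Δ, x' • a = x • a) : cyc Δ x' = cyc Δ x := by
  have key : ∀ (k : ℕ), ∀ a ∈ Δ, x' ^ k • a = x ^ k • a := by
    intro k
    induction k with
    | zero => simp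
    | succ k ih => intro a ha; rw [pow_succ, pow_succ, mul_smul, mul_smul, h a ha, ih _ (hx a ha)]
  unfold cyc
  congr 1
  refine image_congr fun a ha => ?_
  ext b
  simp only [mem_orb_zpowers, key _ a ha]

theorem cyc_union_le (Δ₁ Δ₂ : Finset α) (x : G) : cyc (Δ₁ ∪ Δ₂) x ≤ cyc Δ₁ x + cyc Δ₂ x := by
  unfold cyc; rw [image_union]; exact card_union_le _ _

theorem cyc_le (Δ : Finset α) (x : G) : cyc Δ x ≤ Δ.card := card_image_le

theorem mul_cyc_le {p : ℕ} [hp : Fact p.Prime] {Δ : Finset α} {x : G}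
    (hx : IsPGroup p (Subgroup.zpowers x)) (hI : Inv (Subgroup.zpowers x) Δ)
    (hf : ∀ a ∈ Δ, x • a ≠ a) : p * cyc Δ x ≤ Δ.card := by
  refine mul_card_image_le_card _ _ fun B hB => ?_
  obtain ⟨a, ha, rfl⟩ := mem_image.1 hB
  refine (Nat.le_of_dvd (card_orb_pos _ a)
    (le_card_orb hx (Subgroup.mem_zpowers x) (hf a ha))).trans (card_le_card fun b hb => ?_)
  exact mem_filter.2 ⟨orb_subset hI ha hb, orb_eq hb⟩

end CfsgLib.KPerm
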