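import Cfsg.Agent.Lib.KPerm.Basic

/-! The induction principle for `p`-groups of permutations. -/

set_option autoImplicit false
open Finset MulAction
open scoped Classical

namespace CfsgLib.KPerm

variable {G α : Type*} [Group G] [MulAction G α]

/-- Data for a transitive `p`-group of degree `> 1`. -/
structure TD (p : ℕ) (P : Subgroup G) (Δ : Finset α) where
  χ : G → ZMod p
  add : ∀ g ∈ P, ∀ h ∈ P, χ (g * h) = χ g + χ h
  nt : ∃ t ∈ P, χ t ≠ 0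
  stab : ∀ g ∈ P, ∀ b ∈ Δ, g • b = b → χ g = 0
  a : α
  ha : a ∈ Δ
  tr : ∀ b ∈ Δ, ∃ g ∈ P, g • a = b
  pg : IsPGroup p P
  inv : Inv P Δ

namespace TD

variable {p : ℕ} {P : Subgroup G} {Δ : Finset α} (T : TD p P Δ)

theorem χ_one : T.χ 1 = 0 := T.stab 1 P.one_mem _ T.ha (one_smul _ _)

theorem χ_inv {g : G} (hg : g ∈ P) : T.χ g⁻¹ = - T.χ g := by
  have := T.add g hg g⁻¹ (P.inv_mem hg)
  rw [mul_inv_cancel, T.χ_one] at this
  exact eq_neg_of_add_eq_zero_right this.symm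

theorem χ_pow {g : G} (hg : g ∈ P) (j : ℕ) : T.χ (g ^ j) = j * T.χ g := by
  induction j with
  | zero => simp [T.χ_one]
  | succ j ih => rw [pow_succ, T.add _ (P.pow_mem hg j) _ hg, ih]; push_cast; ring

/-- The kernel of `χ`. -/
def P0 : Subgroup G where
  carrier := {g | g ∈ P ∧ T.χ g = 0}
  one_mem' := ⟨P.one_mem, T.χ_one⟩
  mul_mem' := fun {g h} hg hh => ⟨P.mul_mem hg.1 hh.1, by rw [T.add _ hg.1 _ hh.1, hg.2, hh.2, add_zero]⟩
  inv_mem' := fun {g} hg => ⟨P.inv_mem hg.1, by rw [T.χ_inv hg.1, hg.2, neg_zero]⟩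

theorem mem_P0 {g : G} : g ∈ T.P0 ↔ g ∈ P ∧ T.χ g = 0 := Iff.rfl

theorem P0_le : T.P0 ≤ P := fun _ h => h.1

theorem inf_fx {N : Subgroup G} (hN : N ≤ P) : N ⊓ T.P0 ⊓ fx G Δ = N ⊓ fx G Δ := by
  refine le_antisymm (inf_le_inf_right _ inf_le_left) fun g hg => ⟨⟨hg.1, hN hg.1, ?_⟩, hg.2⟩
  exact T.stab g (hN hg.1) _ T.ha (mem_fx.1 hg.2 _ T.ha)

variable [hp : Fact p.Prime]

theorem exists_pow {t : G} (ht : t ∈ P) (h0 : T.χ t ≠ 0) (v : ZMod p) :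
    ∃ j : ℕ, T.χ (t ^ j) = v :=
  ⟨(v / T.χ t).val, by rw [T.χ_pow ht, ZMod.natCast_zmod_val, div_mul_cancel₀ _ h0]⟩

variable [Fintype G]

theorem reindex {M : Type*} [AddCommMonoid M] {N : Subgroup G} (hN : N ≤ P) {y n₀ : G} (hy : y ∈ P)
    (hn : n₀ ∈ N) (F : G → M) :
    ∑ n ∈ (E N).filter (fun n => T.χ (y * n) = T.χ (y * n₀)), F n =
      ∑ n ∈ E (N ⊓ T.P0), F (n₀ * n) := by
  have h1 : y * n₀ ∈ P := P.mul_mem hy (hN hn)
  refine sum_nbij' (n₀⁻¹ * ·) (n₀ * ·) ?_ ?_ ?_ ?_ ?_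
  · intro n h
    simp only [mem_filter, mem_E, Subgroup.mem_inf, mem_P0] at h ⊢
    have h2 := N.mul_mem (N.inv_mem hn) h.1
    refine ⟨h2, hN h2, ?_⟩
    have := T.add _ h1 _ (hN h2)
    rw [mul_assoc, mul_inv_cancel_left, h.2] at this
    exact left_eq_add.1 this
  · intro n h
    simp only [mem_filter, mem_E, Subgroup.mem_inf, mem_P0] at h ⊢
    exact ⟨N.mul_mem hn h.1, by rw [← mul_assoc, T.add _ h1 _ h.2.1, h.2.2, add_zero]⟩
  · intro n _; simp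
  · intro n _; simp
  · intro n _; simp

omit [Fintype G] in
theorem exists_val {N : Subgroup G} (hN : N ≤ P) {t y : G} (ht : t ∈ N) (h0 : T.χ t ≠ 0)
    (hy : y ∈ P) (v : ZMod p) : ∃ n ∈ N, T.χ (y * n) = v := by
  obtain ⟨j, hj⟩ := T.exists_pow (hN ht) h0 (v - T.χ y)
  exact ⟨t ^ j, N.pow_mem ht j, by rw [T.add _ hy _ (P.pow_mem (hN ht) j), hj]; ring⟩

theorem fib_card {N : Subgroup G} (hN : N ≤ P) {t y : G} (ht : t ∈ N) (h0 : T.χ t ≠ 0)
    (hy : y ∈ P) (v : ZMod p) :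
    ((E N).filter (fun n => T.χ (y * n) = v)).card = (E (N ⊓ T.P0)).card := by
  obtain ⟨n, hn, rfl⟩ := T.exists_val hN ht h0 hy v
  rw [card_eq_sum_ones, T.reindex hN hy hn, ← card_eq_sum_ones]

theorem card_eq {N : Subgroup G} (hN : N ≤ P) {t : G} (ht : t ∈ N) (h0 : T.χ t ≠ 0) :
    (E N).card = p * (E (N ⊓ T.P0)).card := by
  rw [card_eq_sum_card_fiberwise (f := fun n => T.χ (1 * n)) (t := univ) (fun _ _ => by simp),
    sum_congr rfl fun v _ => T.fib_card hN ht h0 P.one_mem v, sum_const, card_univ, ZMod.card,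
    smul_eq_mul]

theorem out_card {N : Subgroup G} (hN : N ≤ P) {t y : G} (ht : t ∈ N) (h0 : T.χ t ≠ 0)
    (hy : y ∈ P) : (((E N).filter (fun n => ¬ T.χ (y * n) = 0)).card : ℝ) =
      (p - 1) * (E (N ⊓ T.P0)).card := by
  have := card_filter_add_card_filter_not (s := E N) (fun n => T.χ (y * n) = 0)
  rw [T.fib_card hN ht h0 hy, T.card_eq hN ht h0] at this
  have h2 := congrArg (Nat.cast : ℕ → ℝ) this
  push_cast at h2
  linarith

theorem card_P : (E P).card = p * (E T.P0).card := by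
  obtain ⟨t, ht, h0⟩ := T.nt
  rw [T.card_eq le_rfl ht h0, inf_eq_right.2 T.P0_le]

omit hp in
include T in
theorem orb_P {b : α} (hb : b ∈ Δ) : orb P b = Δ := by
  have : orb P T.a = Δ := subset_antisymm (orb_subset T.inv T.ha) fun c hc => mem_orb.2 (T.tr c hc)
  rw [orb_eq (by rw [this]; exact hb : b ∈ orb P T.a), this]

theorem card_orb_P0 {b : α} (hb : b ∈ Δ) : p * (orb T.P0 b).card = Δ.card := by
  have h1 := card_orb_mul P b
  have h2 := card_orb_mul T.P0 b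
  have h3 : T.P0 ⊓ fx G {b} = P ⊓ fx G {b} :=
    le_antisymm (inf_le_inf_right _ T.P0_le) fun g hg =>
      ⟨⟨hg.1, T.stab g hg.1 b hb (mem_fx.1 hg.2 b (mem_singleton_self b))⟩, hg.2⟩
  rw [T.orb_P hb, T.card_P, ← h2, h3, ← mul_assoc] at h1
  exact (Nat.eq_of_mul_eq_mul_right (card_E_pos _) h1).symm

theorem ri_P : ri P Δ = p * ri T.P0 Δ := by
  have h1 := ri_mul P Δ
  have h2 := ri_mul T.P0 Δ
  have h3 := T.inf_fx le_rfl
  rw [inf_eq_right.2 T.P0_le] at h3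
  rw [T.card_P, ← h2, h3, ← mul_assoc] at h1
  exact Nat.eq_of_mul_eq_mul_right (card_E_pos _) h1

theorem mem_fx_of_cm {t u : G} (ht : t ∈ P) (h0 : T.χ t ≠ 0) (hc : cm Δ u t)
    (hu : u ∈ fx G (orb T.P0 T.a)) : u ∈ fx G Δ := mem_fx.2 fun b hb => by
  obtain ⟨g, hg, rfl⟩ := T.tr b hb
  obtain ⟨j, hj⟩ := T.exists_pow ht h0 (T.χ g)
  have h1 := P.pow_mem ht j
  have h2 : (t ^ j)⁻¹ * g ∈ T.P0 := ⟨P.mul_mem (P.inv_mem h1) hg, by
    rw [T.add _ (P.inv_mem h1) _ hg, T.χ_inv h1, hj, neg_add_cancel]⟩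
  have h3 : g • T.a = t ^ j • ((t ^ j)⁻¹ * g) • T.a := by rw [mul_smul, smul_inv_smul]
  rw [h3, cm.pow T.inv ht hc j _ (T.inv _ h2.1 _ T.ha),
    mem_fx.1 hu _ (mem_orb.2 ⟨_, h2, rfl⟩)]

theorem cnt {N : Subgroup G} (hN : N ≤ P) {t x : G} (ht : t ∈ P) (h0 : T.χ t ≠ 0) (hx : x ∈ P)
    (v : ZMod p) : ((E N).filter (fun n => T.χ (x * n) = v ∧ cm Δ t (x * n))).card ≤
      (E (N ⊓ fx G Δ)).card * ri T.P0 (orb T.P0 T.a) := by
  obtain ⟨j, hj⟩ := T.exists_pow ht h0 (-v)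
  have h1 := P.pow_mem ht j
  refine (card_le_mul_card_image (f := fun n => res (orb T.P0 T.a) (t ^ j * (x * n))) _ _
    fun b hb => ?_).trans (Nat.mul_le_mul_left _ (card_le_card fun b hb => ?_))
  · obtain ⟨n, hn, rfl⟩ := mem_image.1 hb
    simp only [mem_filter, mem_E] at hn
    refine card_le_card_of_injOn (n⁻¹ * ·) (fun n' hn' => ?_) fun _ _ _ _ h => mul_left_cancel h
    simp only [coe_filter, mem_filter, mem_E, Set.mem_ofPred_eq, mem_coe] at hn' ⊢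
    have h2 := res_eq_iff.1 hn'.2.symm
    have h3 : (t ^ j * (x * n))⁻¹ * (t ^ j * (x * n')) = n⁻¹ * n' := by group
    have h4 : (x * n)⁻¹ * (x * n') = n⁻¹ * n' := by group
    rw [h3] at h2
    refine ⟨N.mul_mem (N.inv_mem hn.1) hn'.1.1, T.mem_fx_of_cm ht h0 (cm.symm ?_) h2⟩
    rw [← h4]
    exact cm.mul T.inv (P.mul_mem hx (hN hn'.1.1))
      (cm.inv T.inv (P.mul_mem hx (hN hn.1)) hn.2.2) hn'.1.2.2
  · obtain ⟨n, hn, rfl⟩ := mem_image.1 hb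
    simp only [mem_filter, mem_E] at hn
    have h2 := P.mul_mem hx (hN hn.1)
    exact mem_image.2 ⟨_, mem_E.2 ⟨P.mul_mem h1 h2, by rw [T.add _ h1 _ h2, hj, hn.2.1,
      neg_add_cancel]⟩, rfl⟩

theorem cnt' {N : Subgroup G} (hN : N ≤ P) {t : G} (ht : t ∈ P) (h0 : T.χ t ≠ 0) :
    ((E N).filter (fun n => cm Δ t n)).card ≤
      p * ((E (N ⊓ fx G Δ)).card * ri T.P0 (orb T.P0 T.a)) := by
  rw [card_eq_sum_card_fiberwise (f := fun n => T.χ n) (t := univ) (fun _ _ => by simp)]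
  refine (sum_le_sum fun v _ => ?_).trans (by rw [sum_const, card_univ, ZMod.card, smul_eq_mul])
  refine le_trans (le_of_eq ?_) (T.cnt hN ht h0 P.one_mem v)
  rw [filter_filter]
  simp only [one_mul, and_comm]

theorem cyc_out {x : G} (hx : x ∈ P) (h0 : T.χ x ≠ 0) : cyc Δ x ≤ (orb T.P0 T.a).card := by
  have h1 : Subgroup.zpowers x ≤ P := Subgroup.zpowers_le.2 hx
  have := mul_cyc_le (T.pg.to_le h1) (T.inv.mono h1) fun a ha h => h0 (T.stab x hx a ha h)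
  rw [← T.card_orb_P0 T.ha] at this
  exact Nat.le_of_mul_le_mul_left this hp.out.pos

end TD

theorem exists_TD {p : ℕ} [hp : Fact p.Prime] [Finite G] {P : Subgroup G} (hP : IsPGroup p P)
    {Δ : Finset α} (hI : Inv P Δ) {a : α} (ha : a ∈ Δ) (htr : ∀ b ∈ Δ, ∃ g ∈ P, g • a = b)
    {g₀ : G} (hg₀ : g₀ ∈ P) (hne : g₀ • a ≠ a) : Nonempty (TD p P Δ) := by
  have h1 : stabilizer P a ≠ ⊤ := fun h => hne ((h ▸ Subgroup.mem_top _ :
    (⟨g₀, hg₀⟩ : P) ∈ stabilizer P a))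
  obtain ⟨M, hM, hle⟩ := (eq_top_or_exists_le_coatom (stabilizer P a)).resolve_left h1
  have h2 := CfsgLib.PGroup.index_eq_prime_of_isCoatom hP hM
  have := CfsgLib.PGroup.normal_of_index_eq_prime hP h2
  have h3 : Nat.card (Multiplicative (ZMod p)) = p := by simp
  let e : (P ⧸ M) ≃* Multiplicative (ZMod p) := mulEquivOfPrimeCardEq h2 h3
  let φ : P →* Multiplicative (ZMod p) := e.toMonoidHom.comp (QuotientGroup.mk' M)
  have hφ : ∀ g, φ g = 1 ↔ g ∈ M := fun g => by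
    simp [φ, QuotientGroup.eq_one_iff]
  let χ : G → ZMod p := fun g => if h : g ∈ P then (φ ⟨g, h⟩).toAdd else 0
  have hχ : ∀ g (h : g ∈ P), χ g = (φ ⟨g, h⟩).toAdd := fun g h => dif_pos h
  have hχ0 : ∀ g (h : g ∈ P), χ g = 0 ↔ (⟨g, h⟩ : P) ∈ M := fun g h => by
    rw [hχ g h, ← hφ, toAdd_eq_zero]
  refine ⟨⟨χ, fun g hg h hh => ?_, ?_, fun g hg b hb hgb => ?_, a, ha, htr, hP, hI⟩⟩
  · rw [hχ g hg, hχ h hh, hχ _ (P.mul_mem hg hh), ← toAdd_mul, ← map_mul]; rfl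
  · by_contra h
    push Not at h
    exact hM.1 (eq_top_iff.2 fun g _ => (hχ0 g g.2).1 (h g g.2))
  · obtain ⟨k, hk, rfl⟩ := htr b hb
    have h4 : (⟨k, hk⟩ : P)⁻¹ * ⟨g, hg⟩ * ⟨k, hk⟩ ∈ M := hle (by
      rw [mem_stabilizer_iff, mul_smul, mul_smul, inv_smul_eq_iff]; exact hgb)
    refine (hχ0 g hg).2 ?_
    have h5 := this.conj_mem _ h4 ⟨k, hk⟩
    rwa [← mul_assoc, ← mul_assoc, mul_inv_cancel, one_mul, mul_inv_cancel_right] at h5

theorem induct {p : ℕ} [hp : Fact p.Prime] [Fintype G] (Q : Subgroup G → Finset α → Prop)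
    (h0 : ∀ P, Q P ∅) (h1 : ∀ P a, (∀ g ∈ P, g • a = a) → Q P {a})
    (h2 : ∀ P Δ₁ Δ₂, Inv P Δ₁ → Inv P Δ₂ → Disjoint Δ₁ Δ₂ → Q P Δ₁ → Q P Δ₂ → Q P (Δ₁ ∪ Δ₂))
    (h3 : ∀ P Δ (T : TD p P Δ), Q T.P0 Δ → Q P Δ) (P : Subgroup G) (Δ : Finset α)
    (hP : IsPGroup p P) (hI : Inv P Δ) : Q P Δ := by
  induction h : (E P).card + Δ.card using Nat.strong_induction_on generalizing P Δ with
  | _ n ih =>
  rcases Δ.eq_empty_or_nonempty with rfl | ⟨a, ha⟩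
  · exact h0 P
  by_cases htr : orb P a = Δ
  · by_cases hf : ∀ g ∈ P, g • a = a
    · have : Δ = {a} := by
        rw [← htr]
        refine eq_singleton_iff_unique_mem.2 ⟨self_mem_orb _ _, fun b hb => ?_⟩
        obtain ⟨g, hg, rfl⟩ := mem_orb.1 hb
        exact hf g hg
      exact this ▸ h1 P a hf
    · push Not at hf
      obtain ⟨g, hg, hne⟩ := hf
      obtain ⟨T⟩ := exists_TD hP hI ha (fun b hb => mem_orb.1 (htr ▸ hb)) hg hne
      refine h3 P Δ T (ih _ ?_ _ _ (hP.to_le T.P0_le) (hI.mono T.P0_le) rfl)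
      have := T.card_P
      have h4 := card_E_pos T.P0
      have h5 := hp.out.two_le
      nlinarith
  · have hs := orb_subset hI ha
    have hI2 : Inv P (Δ \ orb P a) := fun g hg b hb => by
      rw [mem_sdiff] at hb ⊢
      refine ⟨hI g hg b hb.1, fun h => hb.2 ?_⟩
      simpa using inv_orb P a g⁻¹ (P.inv_mem hg) _ h
    rw [← union_sdiff_of_subset hs]
    refine h2 P _ _ (inv_orb P a) hI2 disjoint_sdiff (ih _ ?_ _ _ hP (inv_orb P a) rfl)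
      (ih _ ?_ _ _ hP hI2 rfl)
    · have := card_lt_card (hs.ssubset_of_ne htr); omega
    · have := card_lt_card (sdiff_ssubset hs ⟨a, self_mem_orb P a⟩); omega

end CfsgLib.KPerm
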