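import Cfsg.Agent.Lib.KPerm.Sum
import Cfsg.Agent.Lib.Block.PPart
import Cfsg.Agent.Lib.Coprime.SchurZassenhaus
import Cfsg.Agent.Lib.Invol.SylowElem
import Cfsg.Agent.Lib.Fgs.ClassNumber

/-! Peeling off the largest prime in the count of classes of elements of smooth order. -/

set_option autoImplicit false
open Finset MulAction
open scoped Classical

namespace CfsgLib.KPerm

universe u

section Abstract

variable {X Y : Type*} [Group X] [Group Y]

/-- A representative of a class. -/
noncomputable def rep (K : ConjClasses X) : X := Quotient.out K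

theorem mk_rep (K : ConjClasses X) : ConjClasses.mk (rep K) = K := Quotient.out_eq K

theorem exists_rep (x : X) : ∃ c, c * x * c⁻¹ = rep (ConjClasses.mk x) :=
  isConj_iff.1 (ConjClasses.mk_eq_mk_iff_isConj.1 (mk_rep _).symm)

theorem orderOf_conj' (c x : X) : orderOf (c * x * c⁻¹) = orderOf x :=
  (MulAut.conj c).orderOf_eq x

theorem orderOf_rep (x : X) : orderOf (rep (ConjClasses.mk x)) = orderOf x := by
  obtain ⟨c, hc⟩ := exists_rep x
  rw [← hc, orderOf_conj']

/-- Number of classes of elements whose order has all prime divisors `< q`. -/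
noncomputable def kap (X : Type*) [Group X] (q : ℕ) : ℕ :=
  Nat.card {K : ConjClasses X // orderOf (rep K) ∈ q.smoothNumbers}

theorem kap_le_card [Finite X] (q : ℕ) : kap X q ≤ Nat.card (ConjClasses X) :=
  Finite.card_subtype_le _

theorem kap_eq_card [Finite X] {q : ℕ} (h : ∀ r, r.Prime → r ∣ Nat.card X → r < q) :
    kap X q = Nat.card (ConjClasses X) :=
  Nat.card_congr (Equiv.subtypeUnivEquiv fun _ => Nat.mem_smoothNumbers'.2 fun r hr hd =>
    h r hr (hd.trans (orderOf_dvd_natCard _)))

theorem kap_succ {q : ℕ} (h : ¬ q.Prime) : kap X (q + 1) = kap X q := by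
  rw [kap, kap, Nat.smoothNumbers_succ h]

theorem kap_two [Finite X] : kap X 2 ≤ 1 := by
  rw [kap, Nat.smoothNumbers_succ Nat.not_prime_one, Nat.smoothNumbers_one]
  refine Finite.card_le_one_iff_subsingleton.2 ⟨fun K L => Subtype.ext ?_⟩
  have h1 := K.2
  have h2 := L.2
  rw [Set.mem_singleton_iff, orderOf_eq_one_iff] at h1 h2
  rw [← mk_rep K.1, ← mk_rep L.1, h1, h2]

theorem kap_le_sum [Finite X] {p : ℕ} (hp : p.Prime) {R : Type*} [Group R]
    [Fintype (ConjClasses R)] (ι : R →* X)
    (hι : ∀ y : X, (∃ k, orderOf y = p ^ k) → ∃ g r, g * y * g⁻¹ = ι r) :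
    kap X (p + 1) ≤ ∑ L : ConjClasses R, kap (Subgroup.centralizer {ι (rep L)}) p := by
  let F : (Σ L : ConjClasses R, {K : ConjClasses (Subgroup.centralizer {ι (rep L)}) //
      orderOf (rep K) ∈ p.smoothNumbers}) → ConjClasses X :=
    fun s => ConjClasses.mk (ι (rep s.1) * (rep s.2.1 : Subgroup.centralizer {ι (rep s.1)}))
  have hF : ∀ K : {K : ConjClasses X // orderOf (rep K) ∈ (p + 1).smoothNumbers},
      ∃ s, F s = K.1 := by
    rintro ⟨K, hK⟩
    obtain ⟨y, hy⟩ := Block.exists_isPPart hp (rep K)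
    have hyk := Block.isPPart_mem_zpowers hp hy
    obtain ⟨z, hyz, hc, hyp, hzp⟩ := hy
    obtain ⟨g, r, hg⟩ := hι y hyp
    obtain ⟨h, hh⟩ := exists_rep r
    set L := ConjClasses.mk r
    have hu : ι h * g * y * (ι h * g)⁻¹ = ι (rep L) := by
      rw [← hh, map_mul, map_mul, map_inv, ← hg]; group
    set u := ι h * g
    have hz : u * z * u⁻¹ ∈ Subgroup.centralizer {ι (rep L)} := by
      rw [Subgroup.mem_centralizer_singleton_iff, ← hu]
      calc _ = u * (z * y) * u⁻¹ := by group
        _ = _ := by rw [← hc.eq]; group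
    obtain ⟨c, hcc⟩ := exists_rep (⟨_, hz⟩ : Subgroup.centralizer {ι (rep L)})
    have hzk : z ∈ Subgroup.zpowers (rep K) := by
      have : z = y⁻¹ * rep K := by rw [← hyz]; group
      exact this ▸ Subgroup.mul_mem _ (Subgroup.inv_mem _ hyk) (Subgroup.mem_zpowers _)
    refine ⟨⟨L, ConjClasses.mk ⟨_, hz⟩, ?_⟩, ?_⟩
    · rw [orderOf_rep, ← Subgroup.orderOf_coe, orderOf_conj']
      refine Nat.mem_smoothNumbers'.2 fun r hr hd => ?_
      have := Nat.mem_smoothNumbers'.1 hK r hr (hd.trans (orderOf_dvd_of_mem_zpowers hzk))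
      rcases Nat.lt_succ_iff_lt_or_eq.1 this with h | rfl
      · exact h
      · exact absurd hd hzp
    · simp only [F]
      rw [← hcc, ← mk_rep K, ConjClasses.mk_eq_mk_iff_isConj, ← hyz]
      refine IsConj.symm (isConj_iff.2 ⟨c * u, ?_⟩)
      have h1 := Subgroup.mem_centralizer_singleton_iff.1 c.2
      calc _ = c * (u * y * u⁻¹) * (u * z * u⁻¹) * (c : X)⁻¹ := by group
        _ = _ := by rw [hu, h1]; simp [mul_assoc]
  choose s hs using hF
  refine (Nat.card_le_card_of_injective s fun K K' h => Subtype.ext ?_).trans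
    Nat.card_sigma.le
  rw [← hs, h, hs]

theorem kap_le_of_surj [Finite X] {p q : ℕ} (hp : p.Prime) (hq : q ≤ p) (φ : X →* Y)
    (hφ : Function.Surjective φ) (hk : IsPGroup p φ.ker) : kap X q ≤ kap Y q := by
  have : Finite Y := Finite.of_surjective φ hφ
  have := Fact.mk hp
  refine Nat.card_le_card_of_injective (fun K => ⟨ConjClasses.mk (φ (rep K.1)), ?_⟩)
    fun K L h => Subtype.ext ?_
  · rw [orderOf_rep]
    exact Nat.mem_smoothNumbers_of_dvd K.2 (orderOf_map_dvd φ _)
  · obtain ⟨c, hc⟩ := isConj_iff.1 (ConjClasses.mk_eq_mk_iff_isConj.1 (congrArg Subtype.val h))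
    obtain ⟨c, rfl⟩ := hφ c
    obtain ⟨j, hj⟩ := hk.exists_card_eq
    have hcop : ∀ x : X, orderOf x ∈ q.smoothNumbers →
        (Nat.card (Subgroup.zpowers x)).Coprime (Nat.card φ.ker) := fun x hx => by
      rw [Nat.card_zpowers, hj]
      refine Nat.Coprime.pow_right _ ((hp.coprime_iff_not_dvd).2 fun hd => ?_).symm
      have := Nat.mem_smoothNumbers'.1 hx p hp hd
      omega
    set x := c * rep K.1 * c⁻¹ with hx
    set z := rep L.1
    have h1 : φ x = φ z := by rw [← hc, hx, map_mul, map_mul, map_inv]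
    obtain ⟨k, hk, hle⟩ := Coprime.exists_conj_smul_le_of_le_sup (K := φ.ker)
      (A := Subgroup.zpowers x) (S := Subgroup.zpowers z) Subgroup.le_normalizer_of_normal
      (Subgroup.zpowers_le.2 (by
        have : x = (x * z⁻¹) * z := by group
        rw [this]
        exact Subgroup.mul_mem_sup (by simp [MonoidHom.mem_ker, h1]) (Subgroup.mem_zpowers z)))
      (hcop x (by rw [hx, orderOf_conj']; exact K.2)) (Or.inl inferInstance)
    have h2 := hle (Coprime.conj_mem_conj_smul (Subgroup.mem_zpowers x))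
    have h3 : k * x * k⁻¹ * z⁻¹ = 1 := Coprime.eq_one_of_mem_of_coprime (hcop z L.2)
      (Subgroup.mul_mem _ h2 (Subgroup.inv_mem _ (Subgroup.mem_zpowers z)))
      (by simp [MonoidHom.mem_ker, h1, MonoidHom.mem_ker.1 hk])
    rw [← mk_rep K.1, ← mk_rep L.1, ConjClasses.mk_eq_mk_iff_isConj]
    exact isConj_iff.2 ⟨k * c, by
      change _ = z
      rw [← mul_inv_eq_one, ← h3, hx]; group⟩

theorem card_mul_sum_rep [Fintype X] [Fintype (ConjClasses X)] (f : X → ℝ) (hf : ∀ c x, f (c * x * c⁻¹) = f x) :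
    (Nat.card X : ℝ) * ∑ L : ConjClasses X, f (rep L) =
      ∑ x, Nat.card (Subgroup.centralizer ({x} : Set X)) * f x := by
  rw [mul_sum, ← sum_fiberwise (univ : Finset X) ConjClasses.mk]
  refine sum_congr rfl fun L _ => ?_
  have h := Char.sum_card_centralizer_filter (G := X) (· = L)
  rw [Nat.card_unique, one_mul] at h
  rw [← h, Nat.cast_sum, sum_mul]
  refine sum_congr (by congr) fun x hx => ?_
  obtain ⟨c, hc⟩ := exists_rep x
  rw [← (mem_filter.1 hx).2, ← hc, hf]

end Abstract

section Cycles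

variable {G α : Type*} [Group G] [MulAction G α] [Fintype G]

theorem orb_conj (g x : G) (a : α) : orb (Subgroup.zpowers (g * x * g⁻¹)) (g • a) =
    (orb (Subgroup.zpowers x) a).image (g • ·) := by
  ext b
  simp only [mem_image, mem_orb_zpowers, conj_pow, mul_smul, inv_smul_smul, exists_exists_eq_and]

theorem cyc_conj [Fintype α] (g x : G) :
    cyc (univ : Finset α) (g * x * g⁻¹) = cyc (univ : Finset α) x := by
  unfold cyc
  rw [← card_image_of_injective (univ.image (orb (Subgroup.zpowers x)))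
      (image_injective (MulAction.injective g : Function.Injective fun a : α => g • a)),
    image_image]
  conv_lhs => rw [← image_univ_of_surjective
    (MulAction.surjective g : Function.Surjective fun a : α => g • a), image_image]
  exact congrArg _ (image_congr fun a _ => orb_conj g x a)

theorem cyc_coe (H : Subgroup G) (Δ : Finset α) (x : H) : cyc Δ x = cyc Δ (x : G) := by
  unfold cyc
  refine congrArg _ (image_congr fun a _ => ?_)
  ext b
  simp only [mem_orb_zpowers, Subgroup.smul_def, Subgroup.coe_pow]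

end Cycles

/-- All permutation groups of degree `m` have at most `b` classes of `q`-smooth elements. -/
def Bd (q m : ℕ) (b : ℝ) : Prop :=
  ∀ (β : Type u) [Fintype β] (H : Subgroup (Equiv.Perm β)), Fintype.card β = m → (kap H q : ℝ) ≤ b

theorem Bd.mono {q m : ℕ} {b b' : ℝ} (h : Bd.{u} q m b) (hb : b ≤ b') : Bd.{u} q m b' :=
  fun β _ H hβ => (h β H hβ).trans hb

open Pointwise in
theorem kap_centralizer_le {X : Type*} {α : Type u} [Group X] [Fintype X] [Fintype α] [MulAction X α]
    [FaithfulSMul X α] {p q : ℕ} (hp : p.Prime) (hq : q ≤ p) {y : X} {k : ℕ} (hy : y ^ p ^ k = 1)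
    {b : ℝ} (hb : Bd.{u} q (cyc (univ : Finset α) y) b) :
    (kap (Subgroup.centralizer {y}) q : ℝ) ≤ b := by
  have key : ∀ (c : Subgroup.centralizer {y}) (a : α),
      c • orb (Subgroup.zpowers y) a = orb (Subgroup.zpowers y) (c • a) := fun c a => by
    have h := orb_conj (c : X) y a
    rw [Subgroup.mem_centralizer_singleton_iff.1 c.2, mul_inv_cancel_right] at h
    exact h.symm
  let S : SubMulAction (Subgroup.centralizer {y}) (Finset α) :=
    ⟨(univ.image (orb (Subgroup.zpowers y)) : Finset (Finset α)), fun c B hB => by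
      obtain ⟨a, -, rfl⟩ := mem_image.1 (mem_coe.1 hB)
      exact mem_coe.2 (mem_image.2 ⟨c • a, mem_univ _, (key c a).symm⟩)⟩
  let φ := MulAction.toPermHom (Subgroup.centralizer {y}) S
  let _ : Fintype S := inferInstanceAs (Fintype (univ.image (orb (Subgroup.zpowers y)) :
    Finset (Finset α)))
  refine le_trans (Nat.cast_le.2 (kap_le_of_surj hp hq φ.rangeRestrict
    φ.rangeRestrict_surjective ?_)) (hb S φ.range (Fintype.card_coe _))
  rw [MonoidHom.ker_rangeRestrict]
  intro g
  refine ⟨k, Subtype.ext (Subtype.ext (eq_of_smul_eq_smul (α := α) fun a => ?_))⟩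
  have h1 := congrArg Subtype.val (Equiv.congr_fun (MonoidHom.mem_ker.1 g.2)
    ⟨_, mem_coe.2 (mem_image_of_mem _ (mem_univ a))⟩)
  have h2 : orb (Subgroup.zpowers y) (g.1 • a) = orb (Subgroup.zpowers y) a :=
    (key g.1 a).symm.trans h1
  obtain ⟨i, hi⟩ := mem_orb_zpowers.1 (h2 ▸ self_mem_orb _ (g.1 • a))
  have hc : Commute (g.1 : X) y := Subgroup.mem_centralizer_singleton_iff.1 g.1.2
  have h3 : ∀ j : ℕ, (g.1 : X) ^ j • a = (y ^ i) ^ j • a := fun j => by
    induction j with
    | zero => simp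
    | succ j ih =>
      rw [pow_succ', mul_smul, ih, ← mul_smul, ((hc.pow_right i).pow_right j).eq, mul_smul,
        pow_succ, mul_smul, hi]
      rfl
  simp only [Subgroup.coe_pow, Subgroup.coe_one]
  rw [h3, ← pow_mul, mul_comm, pow_mul, hy, one_pow]

end CfsgLib.KPerm
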