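import Cfsg.Agent.Lib.KPerm.Ind

/-! Weighted element sums and weighted class sums of `p`-groups of permutations. -/

set_option autoImplicit false
open Finset MulAction
open scoped Classical

namespace CfsgLib.KPerm

variable {G α : Type*} [Group G] [MulAction G α] [Fintype G]

/-- The orbit product bound. -/
noncomputable def bnd (g : ℕ → ℝ) (P : Subgroup G) (Δ : Finset α) : ℝ :=
  ∏ a ∈ Δ, g (orb P a).card ^ ((orb P a).card : ℝ)⁻¹

theorem bnd_nonneg {g : ℕ → ℝ} (hg : ∀ n, 0 ≤ g n) (P : Subgroup G) (Δ : Finset α) :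
    0 ≤ bnd g P Δ := prod_nonneg fun _ _ => Real.rpow_nonneg (hg _) _

theorem bnd_const {g : ℕ → ℝ} (hg : ∀ n, 0 ≤ g n) {P : Subgroup G} {Δ : Finset α} {m k : ℕ}
    (hm : 0 < m) (h : ∀ a ∈ Δ, (orb P a).card = m) (hk : k * m = Δ.card) : bnd g P Δ = g m ^ k := by
  rw [bnd, prod_congr rfl fun a ha => by rw [h a ha], prod_const, ← hk, mul_comm, pow_mul,
    Real.rpow_inv_natCast_pow (hg m) hm.ne']

theorem bnd_single {g : ℕ → ℝ} (hg : ∀ n, 0 ≤ g n) {P : Subgroup G} {a : α}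
    (h : ∀ g ∈ P, g • a = a) : bnd g P {a} = g 1 := by
  rw [bnd_const hg (k := 1) one_pos _ (by simp), pow_one]
  intro b hb
  rw [mem_singleton.1 hb]
  refine card_eq_one.2 ⟨a, eq_singleton_iff_unique_mem.2 ⟨self_mem_orb _ _, fun b hb => ?_⟩⟩
  obtain ⟨k, hk, rfl⟩ := mem_orb.1 hb
  exact h k hk

theorem TD.bnd_P {p : ℕ} [Fact p.Prime] {g : ℕ → ℝ} (hg : ∀ n, 0 ≤ g n) {P : Subgroup G}
    {Δ : Finset α} (T : TD p P Δ) : bnd g P Δ = g (p * (orb T.P0 T.a).card) := by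
  rw [T.card_orb_P0 T.ha, bnd_const hg (k := 1) (card_pos.2 ⟨_, T.ha⟩)
    (fun a ha => by rw [T.orb_P ha]) (one_mul _), pow_one]

theorem TD.bnd_P0 {p : ℕ} [hp : Fact p.Prime] {g : ℕ → ℝ} (hg : ∀ n, 0 ≤ g n) {P : Subgroup G}
    {Δ : Finset α} (T : TD p P Δ) : bnd g T.P0 Δ = g (orb T.P0 T.a).card ^ p :=
  bnd_const hg (card_orb_pos _ _) (fun a ha => Nat.eq_of_mul_eq_mul_left hp.out.pos
    (by rw [T.card_orb_P0 ha, T.card_orb_P0 T.ha])) (T.card_orb_P0 T.ha)

theorem bnd_le {g : ℕ → ℝ} (hg : ∀ n, 0 ≤ g n) {c a : ℝ} (ha : 0 ≤ a) (h1 : g 1 ≤ c)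
    (h2 : ∀ n, 2 ≤ n → g n ≤ a ^ n) (P : Subgroup G) (Δ : Finset α) :
    bnd g P Δ ≤ c ^ (Δ.filter fun b => (orb P b).card = 1).card *
      a ^ (Δ.filter fun b => ¬ (orb P b).card = 1).card := by
  rw [bnd, ← prod_filter_mul_prod_filter_not Δ fun b => (orb P b).card = 1, ← prod_const,
    ← prod_const]
  refine mul_le_mul (prod_le_prod (fun _ _ => Real.rpow_nonneg (hg _) _) fun b hb => ?_)
    (prod_le_prod (fun _ _ => Real.rpow_nonneg (hg _) _) fun b hb => ?_)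
    (prod_nonneg fun _ _ => Real.rpow_nonneg (hg _) _) (prod_nonneg fun _ _ => (hg 1).trans h1)
  · rw [(mem_filter.1 hb).2]; simpa using h1
  · have h3 := card_orb_pos P b
    have h4 := (mem_filter.1 hb).2
    refine (Real.rpow_le_rpow (hg _) (h2 _ (by omega)) (by positivity)).trans ?_
    rw [Real.pow_rpow_inv_natCast ha h3.ne']

omit [Fintype G] in
theorem inf_fx_union (N : Subgroup G) (Δ₁ Δ₂ : Finset α) :
    N ⊓ fx G Δ₁ ⊓ fx G Δ₂ = N ⊓ fx G (Δ₁ ∪ Δ₂) := by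
  ext g
  simp only [Subgroup.mem_inf, mem_fx, mem_union, or_imp, forall_and, and_assoc]

theorem pow_cyc_union {c : ℝ} (hc : 1 ≤ c) {P : Subgroup G} {Δ₁ : Finset α} (hI : Inv P Δ₁)
    (Δ₂ : Finset α) {x m : G} (hx : x ∈ P) (hm : m ∈ fx G Δ₁) :
    c ^ cyc (Δ₁ ∪ Δ₂) (x * m) ≤ c ^ cyc Δ₁ x * c ^ cyc Δ₂ (x * m) := by
  rw [← pow_add, ← cyc_congr (x' := x * m) (hI x hx) fun a ha => by rw [mul_smul, mem_fx.1 hm a ha]]
  exact pow_le_pow_right₀ hc (cyc_union_le _ _ _)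

/-- Weighted element sum over a coset. -/
noncomputable def Ws (c : ℝ) (Δ : Finset α) (N : Subgroup G) (y : G) : ℝ :=
  ∑ n ∈ E N, c ^ cyc Δ (y * n)

theorem Ws_le {p : ℕ} [hp : Fact p.Prime] {c : ℝ} (hc : 1 ≤ c) {g : ℕ → ℝ} (hg : ∀ n, 0 ≤ g n)
    (h1 : c ≤ g 1) (hs : ∀ k A : ℕ, (p * A) ^ (p - 1) ≤ p ^ (p * p ^ k - 1) →
      g (p ^ k) ^ p + (p - 1) * A * c ^ p ^ k ≤ g (p * p ^ k))
    (P : Subgroup G) (Δ : Finset α) (hP : IsPGroup p P) (hI : Inv P Δ) :
    ∀ N ≤ P, ∀ y ∈ P, Ws c Δ N y ≤ (E (N ⊓ fx G Δ)).card * bnd g P Δ := by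
  have hc0 : 0 < c := by linarith
  refine induct (p := p) (fun P Δ => ∀ N ≤ P, ∀ y ∈ P,
    Ws c Δ N y ≤ (E (N ⊓ fx G Δ)).card * bnd g P Δ) ?_ ?_ ?_ ?_ P Δ hP hI
  · intro P N _ y _
    have : N ⊓ fx G (∅ : Finset α) = N := inf_eq_left.2 fun g _ => mem_fx.2 (by simp)
    simp [Ws, cyc, bnd, this]
  · intro P a ha N hN y _
    have : N ⊓ fx G {a} = N := inf_eq_left.2 fun g h => mem_fx.2 (by simpa using ha g (hN h))
    rw [this, bnd_single hg ha]
    simpa [Ws, cyc] using mul_le_mul_of_nonneg_left h1 (Nat.cast_nonneg (E N).card)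
  · intro P Δ₁ Δ₂ hI₁ _ hd ih₁ ih₂ N hN y hy
    have hM : (0 : ℝ) < (E (N ⊓ fx G Δ₁)).card := by exact_mod_cast card_E_pos _
    refine le_of_mul_le_mul_left ?_ hM
    rw [Ws, avg inf_le_left, bnd, prod_union hd, ← bnd, ← bnd, ← inf_fx_union]
    calc _ ≤ ∑ n ∈ E N, c ^ cyc Δ₁ (y * n) *
          ((E (N ⊓ fx G Δ₁ ⊓ fx G Δ₂)).card * bnd g P Δ₂) := by
          refine sum_le_sum fun n hn => ?_
          have h2 := P.mul_mem hy (hN (mem_E.1 hn))
          refine le_trans ?_ (mul_le_mul_of_nonneg_left (ih₂ _ (inf_le_left.trans hN) _ h2)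
            (by positivity))
          rw [Ws, mul_sum]
          refine sum_le_sum fun m hm => ?_
          rw [← mul_assoc]
          exact pow_cyc_union hc hI₁ _ h2 (mem_E.1 hm).2
      _ ≤ (E (N ⊓ fx G Δ₁)).card * bnd g P Δ₁ *
          ((E (N ⊓ fx G Δ₁ ⊓ fx G Δ₂)).card * bnd g P Δ₂) := by
          rw [← sum_mul]
          exact mul_le_mul_of_nonneg_right (ih₁ N hN y hy)
            (mul_nonneg (Nat.cast_nonneg _) (bnd_nonneg hg _ _))
      _ = _ := by ring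
  · intro P Δ T ih N hN y hy
    obtain ⟨k, hk⟩ := card_orb_pow (T.pg.to_le T.P0_le) T.a
    have hA := ri_pow_le T.pg T.inv (card_pos.2 ⟨_, T.ha⟩)
    rw [T.ri_P, ← T.card_orb_P0 T.ha, hk] at hA
    have hs' := hs k _ hA
    rw [T.bnd_P0 hg, hk] at ih
    rw [T.bnd_P hg, hk]
    have hp1 : (1 : ℝ) ≤ p - 1 := by
      have : (2 : ℝ) ≤ p := by exact_mod_cast hp.out.two_le
      linarith
    have hK : (0 : ℝ) ≤ (E (N ⊓ fx G Δ)).card := Nat.cast_nonneg _
    have h0 : ((E (N ⊓ T.P0)).card : ℝ) ≤ (E (N ⊓ fx G Δ)).card * ri T.P0 Δ := by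
      have := card_le_ri (inf_le_right : N ⊓ T.P0 ≤ T.P0) Δ
      rw [T.inf_fx hN] at this
      exact_mod_cast this
    have hin : ∑ n ∈ (E N).filter (fun n => T.χ (y * n) = 0), c ^ cyc Δ (y * n) ≤
        (E (N ⊓ fx G Δ)).card * g (p ^ k) ^ p := by
      rcases ((E N).filter (fun n => T.χ (y * n) = 0)).eq_empty_or_nonempty with h | ⟨n₀, h⟩
      · rw [h, sum_empty]; exact mul_nonneg hK (pow_nonneg (hg _) _)
      · simp only [mem_filter, mem_E] at h
        rw [← h.2, T.reindex hN hy h.1, ← T.inf_fx hN]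
        simpa only [Ws, mul_assoc] using
          ih _ inf_le_right (y * n₀) ⟨P.mul_mem hy (hN h.1), h.2⟩
    have hcard : (((E N).filter (fun n => ¬ T.χ (y * n) = 0)).card : ℝ) ≤
        (p - 1) * (E (N ⊓ T.P0)).card := by
      by_cases h : ∃ t ∈ N, T.χ t ≠ 0
      · obtain ⟨t, ht, h⟩ := h
        exact (T.out_card hN ht h hy).le
      · push Not at h
        rw [inf_eq_left.2 fun n hn => (⟨hN hn, h n hn⟩ : n ∈ T.P0)]
        refine le_trans ?_ (le_mul_of_one_le_left (Nat.cast_nonneg _) hp1)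
        exact_mod_cast card_filter_le _ _
    have hout : ∑ n ∈ (E N).filter (fun n => ¬ T.χ (y * n) = 0), c ^ cyc Δ (y * n) ≤
        (p - 1) * ((E (N ⊓ fx G Δ)).card * ri T.P0 Δ) * c ^ p ^ k := by
      refine (sum_le_card_nsmul _ _ (c ^ p ^ k) fun n hn => ?_).trans ?_
      · simp only [mem_filter, mem_E] at hn
        exact pow_le_pow_right₀ hc (hk ▸ T.cyc_out (P.mul_mem hy (hN hn.1)) hn.2)
      · rw [nsmul_eq_mul]
        exact mul_le_mul_of_nonneg_right (hcard.trans (mul_le_mul_of_nonneg_left h0 (by linarith)))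
          (by positivity)
    rw [Ws, ← sum_filter_add_sum_filter_not _ fun n => T.χ (y * n) = 0]
    nlinarith [mul_le_mul_of_nonneg_left hs' hK]

/-- Weighted commuting pair sum over a coset. -/
noncomputable def As (c : ℝ) (Δ : Finset α) (N : Subgroup G) (y : G) : ℝ :=
  ∑ n ∈ E N, ((E N).filter (cm Δ (y * n))).card * c ^ cyc Δ (y * n)

theorem card_cm_coset {P M : Subgroup G} (hM : M ≤ P) {Δ : Finset α} (hI : Inv P Δ) {x g : G}
    (hg : g ∈ P) : ((E M).filter fun m => cm Δ x (g * m)).card ≤ ((E M).filter (cm Δ x)).card := by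
  rcases ((E M).filter fun m => cm Δ x (g * m)).eq_empty_or_nonempty with h | ⟨m₀, h⟩
  · simp [h]
  simp only [mem_filter, mem_E] at h
  refine card_le_card_of_injOn (m₀⁻¹ * ·) (fun m hm => ?_) fun _ _ _ _ h => mul_left_cancel h
  simp only [coe_filter, mem_E, Set.mem_ofPred_eq] at hm ⊢
  refine ⟨M.mul_mem (M.inv_mem h.1) hm.1, ?_⟩
  have : m₀⁻¹ * m = (g * m₀)⁻¹ * (g * m) := by group
  rw [this]
  exact cm.mul hI (P.mul_mem hg (hM hm.1)) (cm.inv hI (P.mul_mem hg (hM h.1)) h.2) hm.2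

theorem card_cm_union {P N : Subgroup G} (hN : N ≤ P) {Δ₁ Δ₂ : Finset α} (hI₁ : Inv P Δ₁)
    (hI₂ : Inv P Δ₂) {x m : G} (hx : x ∈ P) (hm : m ∈ fx G Δ₁) :
    ((E (N ⊓ fx G Δ₁)).card : ℝ) * ((E N).filter (cm (Δ₁ ∪ Δ₂) (x * m))).card ≤
      ((E N).filter (cm Δ₁ x)).card * ((E (N ⊓ fx G Δ₁)).filter (cm Δ₂ (x * m))).card := by
  rw [card_filter, card_filter _ (E N)]
  push_cast
  rw [avg inf_le_left, sum_mul]
  refine sum_le_sum fun g hg => ?_
  rw [mem_E] at hg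
  by_cases h : cm Δ₁ x g
  · rw [if_pos h, one_mul]
    refine le_trans ?_ (Nat.cast_le.2 (card_cm_coset (inf_le_left.trans hN) hI₂ (hN hg)))
    rw [card_filter]
    push_cast
    refine sum_le_sum fun m' _ => ?_
    split_ifs with h1 h2
    · rfl
    · exact absurd (fun a ha => h1 a (mem_union_right _ ha)) h2
    · exact zero_le_one
    · rfl
  · rw [if_neg h, zero_mul]
    refine (sum_eq_zero fun m' hm' => if_neg fun h1 => h fun a ha => ?_).le
    have h2 := h1 a (mem_union_left _ ha)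
    rwa [mul_smul, mul_smul, mul_smul, mul_smul, mem_fx.1 (mem_E.1 hm').2 a ha, mem_fx.1 hm a ha,
      mem_fx.1 hm _ (hI₁ g (hN hg) a ha), mem_fx.1 (mem_E.1 hm').2 (x • a) (hI₁ x hx a ha)] at h2

theorem As_le {p : ℕ} [hp : Fact p.Prime] {c : ℝ} (hc : 1 ≤ c) {g : ℕ → ℝ} (hg : ∀ n, 0 ≤ g n)
    (h1 : c ≤ g 1) (hm : ∀ k : ℕ, g (p ^ k) ^ p ≤ g (p * p ^ k))
    (hs : ∀ k A : ℕ, A ^ (p - 1) ≤ p ^ (p ^ k - 1) →
      g (p ^ k) ^ p + (p - 1) * A * c ^ (p * p ^ k) + p * (p - 1) * A * c ^ p ^ k ≤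
        p * g (p * p ^ k))
    (P : Subgroup G) (Δ : Finset α) (hP : IsPGroup p P) (hI : Inv P Δ) :
    ∀ N ≤ P, ∀ y ∈ P, As c Δ N y ≤ (E N).card * (E (N ⊓ fx G Δ)).card * bnd g P Δ := by
  have hc0 : 0 < c := by linarith
  refine induct (p := p) (fun P Δ => ∀ N ≤ P, ∀ y ∈ P,
    As c Δ N y ≤ (E N).card * (E (N ⊓ fx G Δ)).card * bnd g P Δ) ?_ ?_ ?_ ?_ P Δ hP hI
  · intro P N _ y _
    have : N ⊓ fx G (∅ : Finset α) = N := inf_eq_left.2 fun g _ => mem_fx.2 (by simp)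
    have h2 : ∀ x : G, (E N).filter (cm (∅ : Finset α) x) = E N := fun x => filter_true_of_mem fun _ _ => by
      simp [cm]
    simp [As, cyc, bnd, this, h2]
  · intro P a ha N hN y _
    have : N ⊓ fx G {a} = N := inf_eq_left.2 fun g h => mem_fx.2 (by simpa using ha g (hN h))
    rw [this, bnd_single hg ha, As, mul_assoc, ← nsmul_eq_mul]
    refine sum_le_card_nsmul _ _ _ fun n _ => mul_le_mul (Nat.cast_le.2 (card_filter_le _ _)) ?_
      (by positivity) (by positivity)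
    simpa [cyc] using h1
  · intro P Δ₁ Δ₂ hI₁ hI₂ hd ih₁ ih₂ N hN y hy
    have hM : (0 : ℝ) < (E (N ⊓ fx G Δ₁)).card := by exact_mod_cast card_E_pos _
    refine le_of_mul_le_mul_left (le_of_mul_le_mul_left ?_ hM) hM
    rw [As, avg inf_le_left, bnd, prod_union hd, ← bnd, ← bnd, ← inf_fx_union, mul_sum]
    calc _ ≤ ∑ n ∈ E N, ((E N).filter (cm Δ₁ (y * n))).card * c ^ cyc Δ₁ (y * n) *
          ((E (N ⊓ fx G Δ₁)).card * (E (N ⊓ fx G Δ₁ ⊓ fx G Δ₂)).card * bnd g P Δ₂) := by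
          refine sum_le_sum fun n hn => ?_
          have h2 := P.mul_mem hy (hN (mem_E.1 hn))
          refine le_trans ?_ (mul_le_mul_of_nonneg_left (ih₂ _ (inf_le_left.trans hN) _ h2)
            (by positivity))
          rw [As, mul_sum, mul_sum]
          refine sum_le_sum fun m hm => ?_
          rw [← mul_assoc, ← mul_assoc y, mul_mul_mul_comm]
          exact mul_le_mul (card_cm_union hN hI₁ hI₂ h2 (mem_E.1 hm).2)
            (pow_cyc_union hc hI₁ _ h2 (mem_E.1 hm).2) (by positivity) (by positivity)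
      _ ≤ (E N).card * (E (N ⊓ fx G Δ₁)).card * bnd g P Δ₁ *
          ((E (N ⊓ fx G Δ₁)).card * (E (N ⊓ fx G Δ₁ ⊓ fx G Δ₂)).card * bnd g P Δ₂) := by
          rw [← sum_mul]
          exact mul_le_mul_of_nonneg_right (ih₁ N hN y hy)
            (mul_nonneg (by positivity) (bnd_nonneg hg _ _))
      _ = _ := by ring
  · intro P Δ T ih N hN y hy
    obtain ⟨k, hk⟩ := card_orb_pow (T.pg.to_le T.P0_le) T.a
    have hA := ri_pow_le (T.pg.to_le T.P0_le) (inv_orb T.P0 T.a) (card_orb_pos _ _)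
    rw [hk] at hA
    have hs' := hs k _ hA
    have hm' := hm k
    rw [T.bnd_P0 hg, hk] at ih
    rw [T.bnd_P hg, hk]
    have hn : Δ.card = p * p ^ k := by rw [← T.card_orb_P0 T.ha, hk]
    have hp2 : (2 : ℝ) ≤ p := by exact_mod_cast hp.out.two_le
    set K : ℝ := ((E (N ⊓ fx G Δ)).card : ℝ) with hKd
    set A : ℝ := (ri T.P0 (orb T.P0 T.a) : ℝ) with hAd
    have hK : 0 ≤ K := Nat.cast_nonneg _
    have hA0 : 0 ≤ A := Nat.cast_nonneg _
    have hout : ∀ n ∈ N, T.χ (y * n) ≠ 0 → c ^ cyc Δ (y * n) ≤ c ^ p ^ k := fun n hn h =>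
      pow_le_pow_right₀ hc (hk ▸ T.cyc_out (P.mul_mem hy (hN hn)) h)
    by_cases h : ∃ t ∈ N, T.χ t ≠ 0
    · obtain ⟨t, ht, h⟩ := h
      obtain ⟨n₀, hn₀, h0⟩ := T.exists_val hN ht h hy 0
      have hN0 : ((E N).card : ℝ) = p * (E (N ⊓ T.P0)).card := by
        exact_mod_cast T.card_eq hN ht h
      set M : ℝ := ((E (N ⊓ T.P0)).card : ℝ) with hMd
      have hM : 0 ≤ M := Nat.cast_nonneg _
      have e1 : ∑ n ∈ (E N).filter (fun n => T.χ (y * n) = 0),
          ((E (N ⊓ T.P0)).filter (cm Δ (y * n))).card * c ^ cyc Δ (y * n) ≤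
          M * K * g (p ^ k) ^ p := by
        rw [← h0, T.reindex hN hy hn₀, hKd, ← T.inf_fx hN]
        simpa only [As, mul_assoc] using
          ih _ inf_le_right (y * n₀) ⟨P.mul_mem hy (hN hn₀), h0⟩
      have e2 : ∑ n ∈ (E N).filter (fun n => T.χ (y * n) = 0),
          (((E N).filter (fun g => ¬ T.χ (1 * g) = 0)).filter (cm Δ (y * n))).card *
            c ^ cyc Δ (y * n) ≤ (p - 1) * M * (K * A) * c ^ (p * p ^ k) := by
        refine (sum_le_sum fun n _ => mul_le_mul_of_nonneg_left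
          (pow_le_pow_right₀ hc (hn ▸ cyc_le Δ (y * n))) (Nat.cast_nonneg _)).trans ?_
        rw [← sum_mul]
        refine mul_le_mul_of_nonneg_right ?_ (by positivity)
        simp only [card_filter (cm Δ _)]
        push_cast
        rw [sum_comm, ← T.out_card hN ht h P.one_mem, ← nsmul_eq_mul]
        refine sum_le_card_nsmul _ _ _ fun g hg => ?_
        simp only [mem_filter, mem_E, one_mul] at hg
        refine le_trans (le_of_eq ?_) ((Nat.cast_le.2 (T.cnt hN (hN hg.1) hg.2 hy 0)).trans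
          (by rw [Nat.cast_mul]))
        rw [sum_boole, filter_filter]
        exact congrArg _ (congrArg _ (filter_congr fun _ _ =>
          and_congr_right fun _ => ⟨cm.symm, cm.symm⟩))
      have e3 : ∑ n ∈ (E N).filter (fun n => ¬ T.χ (y * n) = 0),
          ((E N).filter (cm Δ (y * n))).card * c ^ cyc Δ (y * n) ≤
          (p - 1) * M * (p * (K * A) * c ^ p ^ k) := by
        rw [← T.out_card hN ht h hy, ← nsmul_eq_mul]
        refine sum_le_card_nsmul _ _ _ fun n hn => ?_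
        simp only [mem_filter, mem_E] at hn
        refine mul_le_mul ?_ (hout n hn.1 hn.2) (by positivity) (by positivity)
        rw [hKd, hAd]
        exact_mod_cast T.cnt' hN (P.mul_mem hy (hN hn.1)) hn.2
      have e4 : ∀ x, (((E N).filter (cm Δ x)).card : ℝ) = ((E (N ⊓ T.P0)).filter (cm Δ x)).card +
          (((E N).filter (fun g => ¬ T.χ (1 * g) = 0)).filter (cm Δ x)).card := by
        intro x
        rw [← card_filter_add_card_filter_not (s := (E N).filter (cm Δ x))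
          (fun g => T.χ (1 * g) = 0), Nat.cast_add, filter_comm (cm Δ x) _ (E N),
          filter_comm (cm Δ x) _ (E N)]
        congr 4
        ext g
        simp only [mem_filter, mem_E, Subgroup.mem_inf, T.mem_P0, one_mul]
        exact ⟨fun h => ⟨h.1, hN h.1, h.2⟩, fun h => ⟨h.1, h.2.2⟩⟩
      rw [As, ← sum_filter_add_sum_filter_not _ fun n => T.χ (y * n) = 0, hN0,
        sum_congr rfl fun n _ => by rw [e4, add_mul], sum_add_distrib]
      nlinarith [mul_le_mul_of_nonneg_left hs' (mul_nonneg hM hK)]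
    · push Not at h
      have hN0 : N ≤ T.P0 := fun n hn => ⟨hN hn, h n hn⟩
      by_cases hy0 : T.χ y = 0
      · exact (ih N hN0 y ⟨hy, hy0⟩).trans (mul_le_mul_of_nonneg_left hm' (by positivity))
      · rw [As, mul_assoc, ← nsmul_eq_mul]
        refine sum_le_card_nsmul _ _ _ fun n hn => ?_
        rw [mem_E] at hn
        have h2 : T.χ (y * n) ≠ 0 := by rwa [T.add _ hy _ (hN hn), h n hn, add_zero]
        have h3 : (((E N).filter (cm Δ (y * n))).card : ℝ) ≤ K * A := by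
          refine le_trans (le_of_eq ?_) ((Nat.cast_le.2
            (T.cnt hN (P.mul_mem hy (hN hn)) h2 P.one_mem 0)).trans (by rw [Nat.cast_mul]))
          refine congrArg _ (congrArg _ (filter_congr fun g hg => ?_))
          simp [h g (mem_E.1 hg)]
        refine (mul_le_mul h3 (hout n hn h2) (by positivity) (by positivity)).trans ?_
        rw [mul_assoc]
        refine mul_le_mul_of_nonneg_left (le_of_mul_le_mul_left (a := (p : ℝ)) ?_ (by linarith)) hK
        have h4 : 0 ≤ A * c ^ p ^ k := by positivity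
        have h5 : 0 ≤ A * c ^ (p * p ^ k) := by positivity
        nlinarith [pow_nonneg (hg (p ^ k)) p, mul_nonneg h4 (by linarith : (0 : ℝ) ≤ p - 2),
          mul_nonneg h5 (by linarith : (0 : ℝ) ≤ p - 1),
          mul_nonneg (mul_nonneg h4 (by linarith : (0 : ℝ) ≤ p - 2)) (by linarith : (0 : ℝ) ≤ p)]

end CfsgLib.KPerm
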